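import Groth.Agent.AbSub.Basic

/-!
# Transfer along a faithful exact left adjoint: AB5, noetherian objects, generators
-/

universe w u₁ u₂

open CategoryTheory CategoryTheory.Limits ZeroObject

noncomputable section

namespace Groth.AbSub.Transfer

section Noetherian

variable {C : Type u₁} [Category.{w} C] [Abelian C]

lemma le_of_comp_cokernel_eq_zero {X : C} {P Q : Subobject X}
    (h : P.arrow ≫ cokernel.π Q.arrow = 0) : P ≤ Q :=
  Subobject.le_of_comm (Abelian.monoLift Q.arrow P.arrow h) (Abelian.monoLift_comp _ _ _)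

lemma exists_mono_lift {X Y : C} (S : Subobject Y) (φ : X ⟶ Y) (hφ : Mono φ)
    (h : φ ≫ cokernel.π S.arrow = 0) : ∃ j : X ⟶ (S : C), Mono j :=
  have hj := Abelian.monoLift_comp S.arrow φ h
  ⟨_, mono_of_mono_fac hj⟩

/-- Quotients of noetherian objects are noetherian. -/
lemma isNoetherianObject_of_epi {X Y : C} (e : X ⟶ Y) [Epi e] [IsNoetherianObject X] :
    IsNoetherianObject Y := by
  let φ : Subobject Y → Subobject X := fun P => kernelSubobject (e ≫ cokernel.π P.arrow)
  have hmono : Monotone φ := by
    intro P Q h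
    refine le_kernelSubobject _ _ ?_
    have : cokernel.π Q.arrow = cokernel.π P.arrow ≫
        cokernel.desc P.arrow (cokernel.π Q.arrow) (by
          rw [← Subobject.ofLE_arrow h, Category.assoc, cokernel.condition, comp_zero]) := by simp
    rw [this, ← Category.assoc e, ← Category.assoc, kernelSubobject_arrow_comp, zero_comp]
  have href : ∀ P Q, φ P ≤ φ Q → P ≤ Q := by
    intro P Q h
    apply le_of_comp_cokernel_eq_zero
    rw [← cancel_epi (pullback.fst P.arrow e), comp_zero, ← Category.assoc, pullback.condition,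
      Category.assoc]
    have h1 : pullback.snd P.arrow e ≫ e ≫ cokernel.π P.arrow = 0 := by
      rw [← Category.assoc, ← pullback.condition, Category.assoc, cokernel.condition, comp_zero]
    rw [← factorThruKernelSubobject_comp_arrow _ _ h1]
    change ((_ ≫ (φ P).arrow) ≫ _) = 0
    rw [← Subobject.ofLE_arrow h, Category.assoc, Category.assoc]
    have : (φ Q).arrow ≫ e ≫ cokernel.π Q.arrow = 0 := kernelSubobject_arrow_comp _
    rw [this, comp_zero, comp_zero]
  have hs : StrictMono φ := fun P Q h => lt_of_le_of_ne (hmono h.le) fun e' =>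
    h.not_ge (href _ _ e'.ge)
  exact (isNoetherianObject.is_iff Y).2 hs.wellFoundedGT

/-- A join of two noetherian subobjects is noetherian. -/
lemma isNoetherianObject_sup {X : C} (P Q : Subobject X) [IsNoetherianObject (P : C)]
    [IsNoetherianObject (Q : C)] : IsNoetherianObject ((P ⊔ Q : Subobject X) : C) := by
  have hP : WellFoundedGT (Set.Iic P) :=
    (Subobject.subobjectOrderIso P).symm.strictMono.wellFoundedGT
  have hQ : WellFoundedGT (Set.Iic Q) :=
    (Subobject.subobjectOrderIso Q).symm.strictMono.wellFoundedGT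
  have : StrictMono fun c : Set.Iic (P ⊔ Q) =>
      ((⟨c.1 ⊓ P, Set.mem_Iic.2 inf_le_right⟩ : Set.Iic P), (⟨(c.1 ⊔ P) ⊓ Q, Set.mem_Iic.2 inf_le_right⟩ : Set.Iic Q)) := by
    rintro ⟨c, hc⟩ ⟨d, hd⟩ (hcd : c < d)
    refine lt_of_le_of_ne ⟨inf_le_inf_right P hcd.le,
      inf_le_inf_right Q (sup_le_sup_right hcd.le P)⟩ fun e => hcd.ne ?_
    simp only [Prod.mk.injEq, Subtype.mk.injEq] at e
    refine eq_of_le_of_inf_le_of_sup_le hcd.le e.1.ge ?_
    have hk : ∀ x : Subobject X, x ≤ P ⊔ Q → x ⊔ P = P ⊔ ((x ⊔ P) ⊓ Q) := fun x hx => by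
      rw [inf_comm, ← sup_inf_assoc_of_le Q (le_sup_right : P ≤ x ⊔ P),
        inf_eq_right.2 (sup_le hx le_sup_left)]
    rw [hk c hc, hk d hd, e.2]
  have := this.wellFoundedGT
  exact (isNoetherianObject.is_iff _).2
    (Subobject.subobjectOrderIso (P ⊔ Q)).strictMono.wellFoundedGT

/-- A biproduct of two noetherian objects is noetherian. -/
lemma isNoetherianObject_biprod (X Y : C) [IsNoetherianObject X] [IsNoetherianObject Y] :
    IsNoetherianObject (X ⊞ Y) := by
  let P : Subobject (X ⊞ Y) := Subobject.mk (biprod.inl : X ⟶ X ⊞ Y)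
  let Q : Subobject (X ⊞ Y) := Subobject.mk (biprod.inr : Y ⟶ X ⊞ Y)
  have : IsNoetherianObject (P : C) := isNoetherianObject_of_mono (Subobject.underlyingIso _).hom
  have : IsNoetherianObject (Q : C) := isNoetherianObject_of_mono (Subobject.underlyingIso _).hom
  have := isNoetherianObject_sup P Q
  have htop : (⊤ : Subobject (X ⊞ Y)) ≤ P ⊔ Q := by
    have hl : (biprod.inl : X ⟶ X ⊞ Y) = Subobject.ofMkLE biprod.inl (P ⊔ Q) le_sup_left ≫ (P ⊔ Q).arrow :=
      (Subobject.ofMkLE_arrow _).symm
    have hr : (biprod.inr : Y ⟶ X ⊞ Y) = Subobject.ofMkLE biprod.inr (P ⊔ Q) le_sup_right ≫ (P ⊔ Q).arrow :=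
      (Subobject.ofMkLE_arrow _).symm
    refine le_of_comp_cokernel_eq_zero ?_
    have : cokernel.π (P ⊔ Q).arrow = 0 := by
      refine biprod.hom_ext' _ _ ?_ ?_
      · rw [comp_zero, hl, Category.assoc, cokernel.condition, comp_zero]
      · rw [comp_zero, hr, Category.assoc, cokernel.condition, comp_zero]
    rw [this, comp_zero]
  have : IsIso (P ⊔ Q).arrow :=
    (Subobject.isIso_arrow_iff_eq_top _).2 (top_le_iff.1 htop)
  exact isNoetherianObject_of_mono (inv (P ⊔ Q).arrow)

lemma isNoetherianObject_bot (X : C) : IsNoetherianObject ((⊥ : Subobject X) : C) :=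
  isNoetherianObject_of_isZero ((isZero_zero C).of_iso Subobject.botCoeIsoZero)

end Noetherian

section Lists

variable {C : Type u₁} [Category.{w} C] [Abelian C] {ι : Type w} (s : ι → C)

/-- A finite sum of members of a family. -/
def sumL : List ι → C
  | [] => 0
  | i :: l => s i ⊞ sumL l

lemma exists_sumL_of_finset_sup {X : C} {K : Type w} (T : Finset K) (i : K → ι)
    (h : ∀ k, s (i k) ⟶ X) :
    ∃ (l : List ι) (e : sumL s l ⟶ ((T.sup fun k => imageSubobject (h k) : Subobject X) : C)),
      Epi e := by
  classical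
  induction T using Finset.induction with
  | empty =>
    rw [Finset.sup_empty]
    exact ⟨[], 0, IsZero.epi ((isZero_zero C).of_iso Subobject.botCoeIsoZero) _⟩
  | insert k T _ ih =>
    obtain ⟨l, e, he⟩ := ih
    rw [Finset.sup_insert]
    let P := imageSubobject (h k)
    let Q : Subobject X := T.sup fun k => imageSubobject (h k)
    let φ : s (i k) ⊞ sumL s l ⟶ ((P ⊔ Q : Subobject X) : C) :=
      biprod.desc (factorThruImageSubobject (h k) ≫ Subobject.ofLE P _ le_sup_left)
        (e ≫ Subobject.ofLE Q _ le_sup_right)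
    refine ⟨i k :: l, φ, ?_⟩
    change Epi φ
    apply Preadditive.epi_of_cancel_zero
    intro Z g hg
    have h1 : Subobject.ofLE P (P ⊔ Q) le_sup_left ≫ g = 0 := by
      rw [← cancel_epi (factorThruImageSubobject (h k)), comp_zero, ← Category.assoc]
      simpa [φ] using congrArg (biprod.inl ≫ ·) hg
    have h2 : Subobject.ofLE Q (P ⊔ Q) le_sup_right ≫ g = 0 := by
      rw [← cancel_epi e, comp_zero, ← Category.assoc]
      simpa [φ] using congrArg (biprod.inr ≫ ·) hg
    have hle : ∀ R : Subobject X, (hR : R ≤ P ⊔ Q) → Subobject.ofLE R (P ⊔ Q) hR ≫ g = 0 →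
        R ≤ Subobject.mk (kernel.ι g ≫ (P ⊔ Q).arrow) := fun R hR h0 =>
      Subobject.le_mk_of_comm (kernel.lift g _ h0) (by simp)
    have hsup := sup_le (hle P le_sup_left h1) (hle Q le_sup_right h2)
    have hfac : Subobject.ofLEMk (P ⊔ Q) _ hsup ≫ kernel.ι g = 𝟙 _ := by
      rw [← cancel_mono (P ⊔ Q).arrow, Category.assoc, Subobject.ofLEMk_comp, Category.id_comp]
    rw [← Category.id_comp g, ← hfac, Category.assoc, kernel.condition, comp_zero]

end Lists

variable {A : Type u₁} [Category.{w} A] [Abelian A] {B : Type u₂} [Category.{w} B] [Abelian B]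
  (F : A ⥤ B) (G : B ⥤ A) (adj : F ⊣ G) [F.Additive] [F.Faithful]
  [PreservesFiniteLimits F] [PreservesFiniteColimits F]

section Basic

/-- The map on subobjects. -/
def mapSub (a : A) (P : Subobject a) : Subobject (F.obj a) := Subobject.mk (F.map P.arrow)

lemma mapSub_monotone (a : A) : Monotone (mapSub F a) := fun P Q h =>
  Subobject.mk_le_mk_of_comm (F.map (Subobject.ofLE P Q h))
    (by rw [← F.map_comp, Subobject.ofLE_arrow])

lemma le_of_mapSub_le {a : A} {P Q : Subobject a} (h : mapSub F a P ≤ mapSub F a Q) : P ≤ Q := by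
  apply le_of_comp_cokernel_eq_zero
  apply F.map_injective
  rw [F.map_comp, F.map_zero, ← Subobject.ofMkLEMk_comp h, Category.assoc, ← F.map_comp,
    cokernel.condition, F.map_zero, comp_zero]

lemma mapSub_injective (a : A) : Function.Injective (mapSub F a) := fun _ _ h =>
  le_antisymm (le_of_mapSub_le F h.le) (le_of_mapSub_le F h.ge)

lemma isNoetherianObject_of_map (a : A) [IsNoetherianObject (F.obj a)] :
    IsNoetherianObject a :=
  (isNoetherianObject.is_iff a).2
    ((mapSub_monotone F a).strictMono_of_injective (mapSub_injective F a)).wellFoundedGT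

include F in
lemma wellPowered [WellPowered.{w} B] : WellPowered.{w} A :=
  ⟨fun a => small_of_injective (mapSub_injective F a)⟩

include adj in
lemma ab5 [HasColimitsOfSize.{w, w} A] [HasColimitsOfSize.{w, w} B] [AB5OfSize.{w, w} B] :
    AB5OfSize.{w, w} A := by
  have := adj.leftAdjoint_preservesColimits
  have : F.ReflectsIsomorphisms := inferInstance
  have : ReflectsFiniteLimits F :=
    ⟨fun J _ _ => reflectsLimitsOfShape_of_reflectsIsomorphisms⟩
  exact ⟨fun J _ _ => HasExactColimitsOfShape.domain_of_functor J F⟩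

end Basic

section Union

variable {ι : Type w} (s : ι → B) (a : A)

/-- All maps from members of the family to `F a`. -/
abbrev Gen : Type w := Σ i, (s i ⟶ F.obj a)

/-- The finitely generated subobject. -/
def span (T : Finset (Gen F s a)) : Subobject (F.obj a) := T.sup fun k => imageSubobject k.2

omit [F.Additive] [F.Faithful] [PreservesFiniteLimits F] [PreservesFiniteColimits F] in
lemma span_mono {T T' : Finset (Gen F s a)} (h : T ⊆ T') : span F s a T ≤ span F s a T' :=
  Finset.sup_mono h

/-- The diagram of quotients by finitely generated subobjects. -/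
def cok : Finset (Gen F s a) ⥤ B where
  obj T := cokernel (span F s a T).arrow
  map {T T'} f := cokernel.map _ _ (Subobject.ofLE _ _ (span_mono F s a (leOfHom f))) (𝟙 _) (by simp)

/-- The projection to the quotient. -/
def πc (T : Finset (Gen F s a)) : F.obj a ⟶ (cok F s a).obj T :=
  cokernel.π (span F s a T).arrow

instance (T : Finset (Gen F s a)) : Epi (πc F s a T) :=
  inferInstanceAs (Epi (cokernel.π (span F s a T).arrow))

omit [F.Additive] [F.Faithful] [PreservesFiniteLimits F] [PreservesFiniteColimits F] in
lemma arrow_πc (T : Finset (Gen F s a)) : (span F s a T).arrow ≫ πc F s a T = 0 :=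
  cokernel.condition _

omit [F.Additive] [F.Faithful] [PreservesFiniteLimits F] [PreservesFiniteColimits F] in
lemma π_cok_map {T T' : Finset (Gen F s a)} (f : T ⟶ T') :
    πc F s a T ≫ (cok F s a).map f = πc F s a T' := by
  simp [cok, πc]

/-- The adjunct of the projection. -/
def q (T : Finset (Gen F s a)) : a ⟶ G.obj ((cok F s a).obj T) :=
  adj.homEquiv _ _ (πc F s a T)

/-- The corresponding subobject of `a`. -/
abbrev piece (T : Finset (Gen F s a)) : A := kernel (q F G adj s a T)

omit [F.Additive] [F.Faithful] [PreservesFiniteLimits F] [PreservesFiniteColimits F] in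
lemma q_naturality {T T' : Finset (Gen F s a)} (f : T ⟶ T') :
    q F G adj s a T ≫ G.map ((cok F s a).map f) = q F G adj s a T' := by
  simp only [q]
  rw [← Adjunction.homEquiv_naturality_right, π_cok_map]

omit [F.Faithful] [PreservesFiniteColimits F] in
include adj in
lemma exists_mono_piece (T : Finset (Gen F s a)) :
    ∃ j : F.obj (piece F G adj s a T) ⟶ (span F s a T : B), Mono j := by
  have : G.Additive := adj.right_adjoint_additive
  have h0 : F.map (kernel.ι (q F G adj s a T)) ≫ πc F s a T = 0 := by
    apply (adj.homEquiv _ _).injective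
    rw [Adjunction.homEquiv_naturality_left, show adj.homEquiv _ _ (πc F s a T) = q F G adj s a T from rfl,
      kernel.condition]
    simp [Adjunction.homEquiv_unit]
  have hk : Mono (kernel.ι (q F G adj s a T)) := equalizer.ι_mono
  have : F.PreservesMonomorphisms :=
    preservesMonomorphisms_of_preservesLimitsOfShape F
  exact exists_mono_lift (span F s a T) (F.map (kernel.ι (q F G adj s a T))) (F.map_mono _) h0

variable [HasColimitsOfSize.{w, w} A] [AB5OfSize.{w, w} A] [HasColimitsOfSize.{w, w} B]
  [PreservesFilteredColimitsOfSize.{w, w} G]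
  (hsep : ∀ ⦃X Y : B⦄ (f g : X ⟶ Y), (∀ (i : ι) (h : s i ⟶ X), h ≫ f = h ≫ g) → f = g)

include hsep in
/-- Every object is covered by its pieces. -/
theorem eq_zero_of_pieces {Z : A} (g : a ⟶ Z)
    (hg : ∀ T, kernel.ι (q F G adj s a T) ≫ g = 0) : g = 0 := by
  classical
  let K := Gen F s a
  let J := Finset K
  have hι : ∀ T : J, πc F s a T ≫ colimit.ι (cok F s a) T = 0 := by
    intro T
    refine hsep _ _ fun i h => ?_
    rw [comp_zero]
    let T' : J := insert ⟨i, h⟩ T
    have hle : T ≤ T' := Finset.subset_insert _ _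
    have hle' : imageSubobject h ≤ span F s a T' :=
      Finset.le_sup (f := fun k : K => imageSubobject k.2) (Finset.mem_insert_self ⟨i, h⟩ T)
    have hf : (span F s a T').Factors h :=
      Subobject.factors_of_le h hle'

        ((Subobject.factors_iff _ _).2 ⟨factorThruImageSubobject h, imageSubobject_arrow_comp h⟩)
    have h' : h ≫ πc F s a T' = 0 := by
      rw [← (span F s a T').factorThru_arrow h hf, Category.assoc, arrow_πc, comp_zero]
    have := congrArg (· ≫ colimit.ι (cok F s a) T') h'
    simpa [← π_cok_map F s a (homOfLE hle), Category.assoc] using this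
  have hC : IsZero (colimit (cok F s a)) := by
    rw [IsZero.iff_id_eq_zero]
    refine colimit.hom_ext fun T => ?_
    rw [Category.comp_id, comp_zero, ← cancel_epi (πc F s a T), comp_zero]
    exact hι T
  have hGC : IsZero (colimit (cok F s a ⋙ G)) := by
    refine IsZero.of_iso ?_ (preservesColimitIso G (cok F s a)).symm
    have : G.Additive := adj.right_adjoint_additive
    exact G.map_isZero hC
  let α : (Functor.const J).obj a ⟶ cok F s a ⋙ G :=
    { app := fun T => q F G adj s a T
      naturality := fun T T' f => by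
        dsimp
        rw [Category.id_comp, q_naturality] }
  have hepi : Epi (colim.map (kernel.ι α)) := by
    have hex : ((ShortComplex.mk (kernel.ι α) α (kernel.condition α)).map (colim (J := J) (C := A))).Exact :=
      (ShortComplex.exact_of_f_is_kernel _ (kernelIsKernel α)).map _
    exact hex.epi_f (hGC.eq_of_tgt _ _)
  let gg : (Functor.const J).obj a ⟶ (Functor.const J).obj Z :=
    { app := fun _ => g }
  have hkg : kernel.ι α ≫ gg = 0 := by
    ext T
    have hc : (kernel.ι α).app T ≫ q F G adj s a T = 0 :=
      congrArg (fun β => NatTrans.app β T) (kernel.condition α)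
    change (kernel.ι α).app T ≫ g = 0
    rw [← kernel.lift_ι (q F G adj s a T) _ hc, Category.assoc, hg, comp_zero]
  have h0 : colim.map gg = 0 := by
    rw [← cancel_epi (colim.map (kernel.ι α)), ← Functor.map_comp, hkg, Functor.map_zero, comp_zero]
  have hcomp := colimit.ι_map gg (∅ : J)
  change colimit.ι _ (∅ : J) ≫ colim.map gg = _ at hcomp
  rw [h0, comp_zero] at hcomp
  let d : colimit ((Functor.const J).obj Z) ⟶ Z :=
    colimit.desc _ (constCocone J Z)
  have : colimit.ι ((Functor.const J).obj Z) (∅ : J) ≫ d = 𝟙 Z := colimit.ι_desc _ _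
  have h1 := congrArg (· ≫ d) hcomp
  rw [zero_comp, Category.assoc, this] at h1
  exact (Category.comp_id g).symm.trans h1.symm

include adj hsep in
theorem isNoetherianObject_map [IsNoetherianObject a] (hsN : ∀ i, IsNoetherianObject (s i)) :
    IsNoetherianObject (F.obj a) := by
  classical
  let K : Finset (Gen F s a) → Subobject a := fun T => kernelSubobject (q F G adj s a T)
  have hKmono : ∀ {T T'}, T ⊆ T' → K T ≤ K T' := by
    intro T T' h
    refine le_kernelSubobject _ _ ?_
    rw [← q_naturality F G adj s a (homOfLE h), ← Category.assoc]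
    have : (K T).arrow ≫ q F G adj s a T = 0 := kernelSubobject_arrow_comp _
    rw [this, zero_comp]
  obtain ⟨_, ⟨T0, rfl⟩, hmax⟩ := (wellFounded_gt (α := Subobject a)).has_min (Set.range K)
    ⟨K ∅, ∅, rfl⟩
  have hle : ∀ T, K T ≤ K T0 := by
    intro T
    have h1 : K T0 ≤ K (T0 ∪ T) := hKmono Finset.subset_union_left
    have h2 := hKmono (Finset.subset_union_right : T ⊆ T0 ∪ T)
    rcases eq_or_lt_of_le h1 with e | l
    · exact e ▸ h2
    · exact absurd l (hmax _ ⟨_, rfl⟩)
  have hπ : cokernel.π (K T0).arrow = 0 := by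
    refine eq_zero_of_pieces F G adj s a hsep _ fun T => ?_
    rw [← kernelSubobject_arrow' (q F G adj s a T), Category.assoc]
    change _ ≫ (K T).arrow ≫ _ = 0
    rw [← Subobject.ofLE_arrow (hle T), Category.assoc, cokernel.condition, comp_zero, comp_zero]
  have : Epi (K T0).arrow := Preadditive.epi_of_cokernel_zero hπ
  have hq : q F G adj s a T0 = 0 := by
    rw [← cancel_epi (K T0).arrow, comp_zero]
    exact kernelSubobject_arrow_comp _
  have hπ0 : cokernel.π (span F s a T0).arrow = 0 := by
    change πc F s a T0 = 0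
    apply (adj.homEquiv _ _).injective
    rw [show adj.homEquiv _ _ (πc F s a T0) = 0 from hq]
    have : G.Additive := adj.right_adjoint_additive
    simp [Adjunction.homEquiv_unit]
  have : Epi (span F s a T0).arrow := Preadditive.epi_of_cokernel_zero hπ0
  have hN : ∀ T : Finset (Gen F s a), IsNoetherianObject (span F s a T : B) := by
    intro T
    induction T using Finset.induction with
    | empty => exact isNoetherianObject_bot _
    | insert k T _ ih =>
      rw [span, Finset.sup_insert]
      have := hsN k.1
      have := isNoetherianObject_of_epi (factorThruImageSubobject k.2)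
      exact @isNoetherianObject_sup _ _ _ _ _ _ this ih
  have := hN T0
  exact isNoetherianObject_of_epi (span F s a T0).arrow

end Union

variable [HasColimitsOfSize.{w, w} A] [HasColimitsOfSize.{w, w} B]
  [PreservesFilteredColimitsOfSize.{w, w} G] {ι : Type w} (s : ι → B)
  (hsep : ∀ ⦃X Y : B⦄ (f g : X ⟶ Y), (∀ (i : ι) (h : s i ⟶ X), h ≫ f = h ≫ g) → f = g)

include adj hsep in
/-- A small separating family of `A`, of subobjects of `G` of quotients of finite sums. -/
theorem exists_separating [AB5OfSize.{w, w} B] [WellPowered.{w} B] :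
    ∃ (κ : Type w) (t : κ → A),
      ((∀ i, IsNoetherianObject (s i)) → ∀ k, IsNoetherianObject (t k)) ∧
        ∀ ⦃X Y : A⦄ (f g : X ⟶ Y), (∀ (k : κ) (h : t k ⟶ X), h ≫ f = h ≫ g) → f = g := by
  classical
  have := ab5 F G adj
  have hB : ∀ X : B, Small.{w} (Subobject X) := fun X => WellPowered.subobject_small X
  have hA : ∀ X : A, Small.{w} (Subobject X) := fun X => small_of_injective (mapSub_injective F X)
  have : G.Additive := adj.right_adjoint_additive
  let Q : ∀ l : List ι, Shrink.{w} (Subobject (sumL s l)) → B := fun l P =>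
    cokernel ((equivShrink.{w} (Subobject (sumL s l))).symm P).arrow
  let Idx : Type w := Σ (l : List ι) (P : Shrink.{w} (Subobject (sumL s l))),
    Shrink.{w} (Subobject (G.obj (Q l P)))
  let W : Idx → A := fun k =>
    (((equivShrink.{w} (Subobject (G.obj (Q k.1 k.2.1)))).symm k.2.2 : Subobject (G.obj (Q k.1 k.2.1))) : A)
  let κ : Type w := {k : Idx // (∀ i, IsNoetherianObject (s i)) → IsNoetherianObject (W k)}
  refine ⟨κ, fun k => W k.1, fun h k => k.2 h, fun X Y f g h => ?_⟩
  rw [← sub_eq_zero]
  refine eq_zero_of_pieces F G adj s X hsep _ fun T => ?_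
  obtain ⟨j, hj⟩ := exists_mono_piece F G adj s X T
  obtain ⟨l, e, he⟩ := exists_sumL_of_finset_sup s T Sigma.fst fun k => k.2
  change sumL s l ⟶ (span F s X T : B) at e
  let P := equivShrink.{w} (Subobject (sumL s l)) (kernelSubobject e)
  have hP : (equivShrink.{w} (Subobject (sumL s l))).symm P = kernelSubobject e :=
    (equivShrink.{w} _).symm_apply_apply _
  let c : Q l P ⟶ (span F s X T : B) :=
    cokernel.desc _ e (by rw [hP]; exact kernelSubobject_arrow_comp e)
  have hc : Mono c := by
    apply Preadditive.mono_of_cancel_zero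
    intro Z z hz
    let pb := pullback.fst z (cokernel.π ((equivShrink.{w} (Subobject (sumL s l))).symm P).arrow)
    rw [← cancel_epi pb, comp_zero]
    have h1 : pullback.snd z (cokernel.π ((equivShrink.{w} (Subobject (sumL s l))).symm P).arrow) ≫ e = 0 := by
      rw [← cokernel.π_desc ((equivShrink.{w} (Subobject (sumL s l))).symm P).arrow e
        (by rw [hP]; exact kernelSubobject_arrow_comp e), ← Category.assoc, ← pullback.condition,
        Category.assoc]
      exact (congrArg (pb ≫ ·) hz).trans comp_zero
    have h2 := factorThruKernelSubobject_comp_arrow e _ h1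
    rw [pullback.condition, ← h2, Category.assoc]
    have h3 : (kernelSubobject e).arrow ≫
        cokernel.π ((equivShrink.{w} (Subobject (sumL s l))).symm P).arrow = 0 := by
      rw [← Subobject.ofLE_arrow hP.ge, Category.assoc, cokernel.condition, comp_zero]
    rw [h3, comp_zero]
  have : Epi c := by
    have : Epi e := he
    exact epi_of_epi_fac (f := cokernel.π _) (g := c) (h := e) (cokernel.π_desc _ _ _)
  have : IsIso c := isIso_of_mono_of_epi c
  let m : piece F G adj s X T ⟶ G.obj (Q l P) := adj.homEquiv _ _ (j ≫ inv c)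
  have : Mono m := by
    apply Preadditive.mono_of_cancel_zero
    intro Z z hz
    apply F.map_injective
    rw [F.map_zero, ← cancel_mono (j ≫ inv c), zero_comp]
    apply (adj.homEquiv _ _).injective
    rw [Adjunction.homEquiv_naturality_left]
    exact hz.trans (by simp [Adjunction.homEquiv_unit])
  let k : Idx := ⟨l, P, equivShrink.{w} _ (Subobject.mk m)⟩
  let i : W k ≅ piece F G adj s X T :=
    Subobject.isoOfEq ((equivShrink.{w} _).symm ((equivShrink.{w} _) (Subobject.mk m))) (Subobject.mk m)
      ((equivShrink.{w} _).symm_apply_apply _) ≪≫ Subobject.underlyingIso m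
  have hk : (∀ i, IsNoetherianObject (s i)) → IsNoetherianObject (W k) := by
    intro hsN
    have hs' : ∀ l, IsNoetherianObject (sumL s l) := by
      intro l
      induction l with
      | nil => exact isNoetherianObject_of_isZero (isZero_zero B)
      | cons i l ih =>
        have := hsN i
        exact isNoetherianObject_biprod _ _
    have := hs' l
    have : IsNoetherianObject (span F s X T : B) := @isNoetherianObject_of_epi _ _ _ _ _ e he this
    have := isNoetherianObject_of_mono j
    have := isNoetherianObject_of_map F (piece F G adj s X T)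
    exact isNoetherianObject_of_mono i.hom
  have := h ⟨k, hk⟩ (i.hom ≫ kernel.ι (q F G adj s X T))
  rw [Category.assoc, Category.assoc, cancel_epi] at this
  change kernel.ι (q F G adj s X T) ≫ (f - g) = 0
  rw [Preadditive.comp_sub]
  exact sub_eq_zero.2 this

end Groth.AbSub.Transfer
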