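import Mathlib

/-!
# Subobjects in abelian categories: modular lattice, second isomorphism theorem, covering = simple quotient
-/

universe v u v' u'

open CategoryTheory CategoryTheory.Limits

noncomputable section

namespace Groth.AbSub

variable {A : Type u} [Category.{v} A] [Abelian A]

local notation "F" => Abelian.FreydMitchell.functor A

instance additive_freydMitchell : (F).Additive := Functor.additive_of_preserves_binary_products _

/-- The image of a subobject in the Freyd--Mitchell module. -/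
def rg {X : A} (P : Subobject X) :
    Submodule (Abelian.FreydMitchell.EmbeddingRing A) ((F).obj X) :=
  LinearMap.range ((F).map P.arrow).hom

lemma mem_rg {X : A} {P : Subobject X} {z : (F).obj X} :
    z ∈ rg P ↔ ∃ p, ((F).map P.arrow).hom p = z := LinearMap.mem_range

lemma map_comp_apply {X Y Z : A} (f : X ⟶ Y) (g : Y ⟶ Z) (x : (F).obj X) :
    ((F).map (f ≫ g)).hom x = ((F).map g).hom (((F).map f).hom x) := by
  rw [Functor.map_comp, ModuleCat.hom_comp]; rfl

lemma inj_of_mono {X Y : A} (f : X ⟶ Y) [Mono f] : Function.Injective ((F).map f).hom := by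
  exact (ModuleCat.mono_iff_injective _).1 inferInstance

lemma surj_of_epi {X Y : A} (f : X ⟶ Y) [Epi f] : Function.Surjective ((F).map f).hom := by
  exact (ModuleCat.epi_iff_surjective _).1 inferInstance

lemma mono_of_inj {X Y : A} (f : X ⟶ Y) (h : Function.Injective ((F).map f).hom) : Mono f :=
  (F).mono_of_mono_map ((ModuleCat.mono_iff_injective _).2 h)

lemma epi_of_surj {X Y : A} (f : X ⟶ Y) (h : Function.Surjective ((F).map f).hom) : Epi f :=
  (F).epi_of_epi_map ((ModuleCat.epi_iff_surjective _).2 h)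

lemma rg_mono {X : A} {P Q : Subobject X} (h : P ≤ Q) : rg P ≤ rg Q := by
  intro z hz
  obtain ⟨p, rfl⟩ := mem_rg.1 hz
  exact mem_rg.2 ⟨((F).map (Subobject.ofLE P Q h)).hom p, by
    rw [← map_comp_apply, Subobject.ofLE_arrow]⟩

/-- The kernel of a map of modules coming from `A` is the range of the kernel inclusion. -/
lemma exists_of_map_eq_zero {X Y : A} (g : X ⟶ Y) {z : (F).obj X}
    (hz : ((F).map g).hom z = 0) : ∃ k, ((F).map (kernel.ι g)).hom k = z := by
  have hex : (ShortComplex.mk (kernel.ι g) g (kernel.condition g)).Exact :=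
    ShortComplex.exact_of_f_is_kernel _ (kernelIsKernel g)
  have := (ShortComplex.moduleCat_exact_iff _).1 (hex.map (F)) z hz
  exact this

lemma exists_of_cokernel_eq_zero {X Y : A} (g : X ⟶ Y) {z : (F).obj Y}
    (hz : ((F).map (cokernel.π g)).hom z = 0) : ∃ k, ((F).map g).hom k = z := by
  have hex : (ShortComplex.mk g (cokernel.π g) (cokernel.condition g)).Exact :=
    ShortComplex.exact_of_g_is_cokernel _ (cokernelIsCokernel g)
  exact (ShortComplex.moduleCat_exact_iff _).1 (hex.map (F)) z hz

lemma le_of_rg_le {X : A} {P Q : Subobject X} (h : rg P ≤ rg Q) : P ≤ Q := by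
  have h0 : P.arrow ≫ cokernel.π Q.arrow = 0 := by
    apply (F).map_injective
    rw [Functor.map_zero]
    apply ModuleCat.hom_ext
    ext p
    obtain ⟨q, hq⟩ := mem_rg.1 (h (mem_rg.2 ⟨p, rfl⟩))
    rw [map_comp_apply, ← hq, ← map_comp_apply, cokernel.condition, Functor.map_zero]
    rfl
  exact Subobject.le_of_comm (Abelian.monoLift Q.arrow P.arrow h0)
    (Abelian.monoLift_comp _ _ _)

lemma rg_le_iff {X : A} {P Q : Subobject X} : rg P ≤ rg Q ↔ P ≤ Q :=
  ⟨le_of_rg_le, rg_mono⟩

lemma rg_injective {X : A} : Function.Injective (rg (A := A) (X := X)) := fun _ _ h =>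
  le_antisymm (le_of_rg_le h.le) (le_of_rg_le h.ge)

lemma rg_sup {X : A} (P Q : Subobject X) : rg (P ⊔ Q) = rg P ⊔ rg Q := by
  apply le_antisymm
  · let d : (P : A) ⊞ (Q : A) ⟶ X := biprod.desc P.arrow Q.arrow
    have hP : P ≤ imageSubobject d :=
      Subobject.le_of_comm (biprod.inl ≫ factorThruImageSubobject d) (by simp [d])
    have hQ : Q ≤ imageSubobject d :=
      Subobject.le_of_comm (biprod.inr ≫ factorThruImageSubobject d) (by simp [d])
    intro z hz
    obtain ⟨w, rfl⟩ := mem_rg.1 (rg_mono (sup_le hP hQ) hz)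
    obtain ⟨t, rfl⟩ := surj_of_epi (factorThruImageSubobject d) w
    rw [← map_comp_apply, imageSubobject_arrow_comp]
    have hd : d = biprod.fst ≫ P.arrow + biprod.snd ≫ Q.arrow := biprod.desc_eq
    rw [hd, Functor.map_add]
    refine Submodule.mem_sup.2 ⟨_, mem_rg.2 ⟨_, (map_comp_apply biprod.fst P.arrow t).symm⟩, _,
      mem_rg.2 ⟨_, (map_comp_apply biprod.snd Q.arrow t).symm⟩, rfl⟩
  · exact sup_le (rg_mono le_sup_left) (rg_mono le_sup_right)

lemma rg_inf {X : A} (P Q : Subobject X) : rg (P ⊓ Q) = rg P ⊓ rg Q := by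
  apply le_antisymm
  · exact le_inf (rg_mono inf_le_left) (rg_mono inf_le_right)
  · rintro z ⟨hP, hQ⟩
    obtain ⟨p, rfl⟩ := mem_rg.1 hP
    obtain ⟨q, hq⟩ := mem_rg.1 hQ
    have h0 : ((F).map (P.arrow ≫ cokernel.π Q.arrow)).hom p = 0 := by
      rw [map_comp_apply, ← hq, ← map_comp_apply, cokernel.condition, Functor.map_zero]
      rfl
    obtain ⟨k, rfl⟩ := exists_of_map_eq_zero _ h0
    let m := kernel.ι (P.arrow ≫ cokernel.π Q.arrow) ≫ P.arrow
    have hfac : (P ⊓ Q).Factors m := by
      rw [Subobject.inf_factors]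
      refine ⟨(Subobject.factors_iff _ _).2 ⟨kernel.ι _, rfl⟩, ?_⟩
      have hm : m ≫ cokernel.π Q.arrow = 0 := by simp [m]
      exact (Subobject.factors_iff _ _).2
        ⟨(Abelian.monoLift Q.arrow m hm : _), Abelian.monoLift_comp Q.arrow m hm⟩
    refine mem_rg.2 ⟨((F).map ((P ⊓ Q).factorThru m hfac)).hom k, ?_⟩
    rw [← map_comp_apply, Subobject.factorThru_arrow]
    exact map_comp_apply _ _ k

instance isModularLattice (X : A) : IsModularLattice (Subobject X) where
  sup_inf_le_assoc_of_le {x} y {z} hxz := by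
    rw [← rg_le_iff]
    simp only [rg_sup, rg_inf]
    exact IsModularLattice.sup_inf_le_assoc_of_le _ (rg_mono hxz)

/-- Elements of a larger subobject that lie in a smaller one. -/
lemma exists_of_mem_rg {X : A} {P Q : Subobject X} (h : P ≤ Q) {q : (F).obj (Q : A)}
    (hq : ((F).map Q.arrow).hom q ∈ rg P) : ∃ p, ((F).map (Subobject.ofLE P Q h)).hom p = q := by
  obtain ⟨p, hp⟩ := mem_rg.1 hq
  refine ⟨p, inj_of_mono Q.arrow ?_⟩
  rw [← map_comp_apply, Subobject.ofLE_arrow, hp]

/-- Second isomorphism theorem for subobjects. -/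
theorem second_iso {X : A} (x y : Subobject X) :
    Nonempty (cokernel (Subobject.ofLE (x ⊓ y) y inf_le_right) ≅
      cokernel (Subobject.ofLE x (x ⊔ y) le_sup_left)) := by
  let a := Subobject.ofLE (x ⊓ y) x inf_le_left
  let b := Subobject.ofLE y (x ⊔ y) le_sup_right
  let φ := cokernel.map (Subobject.ofLE (x ⊓ y) y inf_le_right)
    (Subobject.ofLE x (x ⊔ y) le_sup_left) a b
    (by simp [a, b, Subobject.ofLE_comp_ofLE])
  have hπ : ∀ q, ((F).map φ).hom (((F).map (cokernel.π (Subobject.ofLE (x ⊓ y) y inf_le_right))).hom q) =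
      ((F).map (cokernel.π (Subobject.ofLE x (x ⊔ y) le_sup_left))).hom (((F).map b).hom q) := by
    intro q
    rw [← map_comp_apply, cokernel.π_desc, map_comp_apply]
  have : Mono φ := mono_of_inj φ (by
    rw [injective_iff_map_eq_zero]
    intro c hc
    obtain ⟨q, rfl⟩ := surj_of_epi (cokernel.π (Subobject.ofLE (x ⊓ y) y inf_le_right)) c
    rw [hπ] at hc
    obtain ⟨p, hp⟩ := exists_of_cokernel_eq_zero _ hc
    have h1 : ((F).map y.arrow).hom q = ((F).map x.arrow).hom p := by
      have := congrArg ((F).map (x ⊔ y).arrow).hom hp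
      rw [← map_comp_apply, ← map_comp_apply, Subobject.ofLE_arrow] at this
      rw [this]
      simp [b]
    have hmem : ((F).map y.arrow).hom q ∈ rg (x ⊓ y) := by
      rw [rg_inf]
      exact ⟨mem_rg.2 ⟨p, h1.symm⟩, mem_rg.2 ⟨q, rfl⟩⟩
    obtain ⟨w, rfl⟩ := exists_of_mem_rg inf_le_right hmem
    rw [← map_comp_apply, cokernel.condition, Functor.map_zero]
    rfl)
  have : Epi φ := epi_of_surj φ (by
    intro c
    obtain ⟨z, rfl⟩ := surj_of_epi (cokernel.π (Subobject.ofLE x (x ⊔ y) le_sup_left)) c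
    have hz : ((F).map (x ⊔ y).arrow).hom z ∈ rg x ⊔ rg y := by
      rw [← rg_sup]; exact mem_rg.2 ⟨z, rfl⟩
    obtain ⟨_, h1, _, h2, hsum⟩ := Submodule.mem_sup.1 hz
    obtain ⟨p, rfl⟩ := mem_rg.1 h1
    obtain ⟨q, rfl⟩ := mem_rg.1 h2
    have hz' : z = ((F).map (Subobject.ofLE x (x ⊔ y) le_sup_left)).hom p + ((F).map b).hom q := by
      apply inj_of_mono (x ⊔ y).arrow
      rw [map_add, ← map_comp_apply, ← map_comp_apply, ← hsum]
      simp [b]
    refine ⟨((F).map (cokernel.π (Subobject.ofLE (x ⊓ y) y inf_le_right))).hom q, ?_⟩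
    rw [hπ, hz', map_add, ← map_comp_apply (Subobject.ofLE x (x ⊔ y) le_sup_left), cokernel.condition,
      Functor.map_zero]
    simp)
  have : IsIso φ := isIso_of_mono_of_epi φ
  exact ⟨asIso φ⟩

lemma cokernel_iso_of_eq {X : A} {x x' y y' : Subobject X} (hx : x = x') (hy : y = y')
    (h : x ≤ y) (h' : x' ≤ y') :
    Nonempty (cokernel (Subobject.ofLE x y h) ≅ cokernel (Subobject.ofLE x' y' h')) := by
  subst hx hy; exact ⟨Iso.refl _⟩

lemma lt_of_simple_cokernel {X : A} {x y : Subobject X} (h : x ≤ y)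
    [Simple (cokernel (Subobject.ofLE x y h))] : x < y := by
  refine lt_of_le_of_ne h fun e => ?_
  subst e
  have hz : IsZero (cokernel (Subobject.ofLE x x h)) := by
    rw [Subobject.ofLE_refl]
    exact isZero_cokernel_of_epi _
  exact Simple.not_isZero _ hz

theorem simple_cokernel_iff_covBy {X : A} {x y : Subobject X} (h : x ≤ y) :
    Simple (cokernel (Subobject.ofLE x y h)) ↔ x ⋖ y := by
  let π := cokernel.π (Subobject.ofLE x y h)
  constructor
  · intro hs
    refine ⟨lt_of_simple_cokernel h, fun z hxz hzy => ?_⟩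
    let φ := cokernel.map (Subobject.ofLE x z hxz.le) (Subobject.ofLE x y h) (𝟙 _)
      (Subobject.ofLE z y hzy.le) (by simp [Subobject.ofLE_comp_ofLE])
    have hπ : ∀ a, ((F).map φ).hom (((F).map (cokernel.π (Subobject.ofLE x z hxz.le))).hom a) =
        ((F).map π).hom (((F).map (Subobject.ofLE z y hzy.le)).hom a) := by
      intro a
      rw [← map_comp_apply, cokernel.π_desc, map_comp_apply]
    have : Mono φ := mono_of_inj φ (by
      rw [injective_iff_map_eq_zero]
      intro c hc
      obtain ⟨a, rfl⟩ := surj_of_epi (cokernel.π (Subobject.ofLE x z hxz.le)) c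
      rw [hπ] at hc
      obtain ⟨p, hp⟩ := exists_of_cokernel_eq_zero _ hc
      have : a = ((F).map (Subobject.ofLE x z hxz.le)).hom p := by
        apply inj_of_mono (Subobject.ofLE z y hzy.le)
        rw [← hp, ← map_comp_apply _ (Subobject.ofLE z y hzy.le), Subobject.ofLE_comp_ofLE]
      rw [this, ← map_comp_apply, cokernel.condition, Functor.map_zero]
      rfl)
    have hne : φ ≠ 0 := by
      intro h0
      have hz : cokernel.π (Subobject.ofLE x z hxz.le) = 0 := by
        rw [← cancel_mono φ, h0, comp_zero, comp_zero]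
      apply hxz.not_ge
      apply le_of_rg_le
      intro w hw
      obtain ⟨a, rfl⟩ := mem_rg.1 hw
      obtain ⟨p, rfl⟩ := exists_of_cokernel_eq_zero (Subobject.ofLE x z hxz.le) (z := a)
        (by rw [hz, Functor.map_zero]; rfl)
      rw [← map_comp_apply, Subobject.ofLE_arrow]
      exact mem_rg.2 ⟨p, rfl⟩
    have : IsIso φ := isIso_of_mono_of_nonzero hne
    apply hzy.not_ge
    apply le_of_rg_le
    intro w hw
    obtain ⟨b, rfl⟩ := mem_rg.1 hw
    obtain ⟨c, hc⟩ := surj_of_epi φ (((F).map π).hom b)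
    obtain ⟨a, rfl⟩ := surj_of_epi (cokernel.π (Subobject.ofLE x z hxz.le)) c
    rw [hπ] at hc
    have h0 : ((F).map π).hom (b - ((F).map (Subobject.ofLE z y hzy.le)).hom a) = 0 := by
      rw [map_sub, hc, sub_self]
    obtain ⟨p, hp⟩ := exists_of_cokernel_eq_zero _ h0
    rw [eq_sub_iff_add_eq] at hp
    rw [← hp, map_add, ← map_comp_apply, ← map_comp_apply, Subobject.ofLE_arrow,
      Subobject.ofLE_arrow]
    exact add_mem (rg_mono hxz.le (mem_rg.2 ⟨p, rfl⟩)) (mem_rg.2 ⟨a, rfl⟩)
  · intro hc
    refine ⟨fun {W} f _ => ⟨fun hi hf => ?_, fun hf => ?_⟩⟩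
    · have hz : IsZero (cokernel (Subobject.ofLE x y h)) := by
        have : Epi f := inferInstance
        rw [hf] at this
        exact IsZero.of_epi_zero W _
      apply hc.lt.not_ge
      apply le_of_rg_le
      intro w hw
      obtain ⟨b, rfl⟩ := mem_rg.1 hw
      obtain ⟨p, rfl⟩ := exists_of_cokernel_eq_zero (Subobject.ofLE x y h) (z := b)
        (by rw [hz.eq_of_tgt (cokernel.π (Subobject.ofLE x y h)) 0, Functor.map_zero]; rfl)
      rw [← map_comp_apply, Subobject.ofLE_arrow]
      exact mem_rg.2 ⟨p, rfl⟩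
    · let s := pullback.snd f π
      let z := Subobject.mk (s ≫ y.arrow)
      have hzy : z ≤ y := Subobject.mk_le_of_comm s rfl
      have hxz : x ≤ z := Subobject.le_mk_of_comm
        (pullback.lift 0 (Subobject.ofLE x y h) (by simp [π]))
        (by simp only [s]; rw [← Category.assoc, pullback.lift_snd, Subobject.ofLE_arrow])
      rcases eq_or_lt_of_le hxz with e | l
      · exfalso
        have hs : s ≫ π = 0 := by
          have hle : Subobject.mk (s ≫ y.arrow) ≤ x := e.ge
          have : s = Subobject.ofMkLE _ x hle ≫ Subobject.ofLE x y h := by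
            rw [← cancel_mono y.arrow, Category.assoc, Subobject.ofLE_arrow, Subobject.ofMkLE_arrow]
          rw [this, Category.assoc, cokernel.condition, comp_zero]
        apply hf
        rw [← cancel_epi (pullback.fst f π), pullback.condition, comp_zero]
        exact hs
      · have hzy' : y ≤ z := (eq_or_lt_of_le hzy).elim (fun e => e.ge) fun l' => (hc.2 l l').elim
        let t := Subobject.ofLEMk y (s ≫ y.arrow) hzy'
        have ht : t ≫ s = 𝟙 _ := by
          rw [← cancel_mono y.arrow, Category.assoc, Subobject.ofLEMk_comp, Category.id_comp]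
        have : Epi f := by
          have hfac : (t ≫ pullback.fst f π) ≫ f = π := by
            rw [Category.assoc, pullback.condition, ← Category.assoc, ht, Category.id_comp]
          exact epi_of_epi_fac hfac
        exact isIso_of_mono_of_epi f

end Groth.AbSub
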