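import Mathlib

/-!
# Positive degree Ext classes are effaceable
-/

universe w v u

open CategoryTheory CategoryTheory.Limits CategoryTheory.Abelian DerivedCategory

noncomputable section

namespace Groth.Effaceable

variable {A : Type u} [Category.{v} A] [Abelian A]

attribute [local instance] HasDerivedCategory.standard

/-- A complex in degrees `≤ 0` receives its degree zero term. -/
def fromSingle (K : CochainComplex A ℤ) [K.IsStrictlyLE 0] :
    (CochainComplex.singleFunctor A 0).obj (K.X 0) ⟶ K :=
  HomologicalComplex.mkHomFromSingle (𝟙 _) fun j hj =>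
    (K.isZero_of_isStrictlyLE 0 j (by simp at hj; omega)).eq_of_tgt _ _

/-- Maps from a single complex in degree zero to a shifted single complex vanish. -/
lemma single_to_shift_eq_zero {L M : A} (n : ℤ) (hn : n ≠ 0)
    (g : (CochainComplex.singleFunctor A 0).obj L ⟶ ((CochainComplex.singleFunctor A 0).obj M)⟦n⟧) :
    g = 0 := by
  apply HomologicalComplex.hom_ext
  intro i
  by_cases hi : i = 0
  · subst hi
    exact (HomologicalComplex.isZero_single_obj_X (ComplexShape.up ℤ) 0 M (0 + n) (by omega)).eq_of_tgt _ _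
  · exact (HomologicalComplex.isZero_single_obj_X (ComplexShape.up ℤ) 0 L i hi).eq_of_src _ _

lemma epi_f_zero (K : CochainComplex A ℤ) [K.IsStrictlyLE 0] (L : A)
    (s : K ⟶ (CochainComplex.singleFunctor A 0).obj L) [QuasiIsoAt s 0] : Epi (s.f 0) := by
  let S := (CochainComplex.singleFunctor A 0).obj L
  have hd : S.d (-1) 0 = 0 := HomologicalComplex.single_obj_d (ComplexShape.up ℤ) 0 L _ _
  have hd' : S.d 0 1 = 0 := HomologicalComplex.single_obj_d (ComplexShape.up ℤ) 0 L _ _
  have hπ : IsIso (S.homologyπ 0) := S.isIso_homologyπ (-1) 0 (by simp) hd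
  have hi : IsIso (S.iCycles 0) := S.isIso_iCycles 0 1 (by simp) hd'
  have hc : Epi (HomologicalComplex.cyclesMap s 0) := by
    have h := HomologicalComplex.homologyπ_naturality s 0
    have : Epi (K.homologyπ 0 ≫ HomologicalComplex.homologyMap s 0) := inferInstance
    rw [h] at this
    have e : HomologicalComplex.cyclesMap s 0 =
        (HomologicalComplex.cyclesMap s 0 ≫ S.homologyπ 0) ≫ inv (S.homologyπ 0) := by simp
    rw [e]
    exact epi_comp _ _
  have h2 := HomologicalComplex.cyclesMap_i s 0
  have : Epi (K.iCycles 0 ≫ s.f 0) := by rw [← h2]; exact epi_comp _ _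
  exact epi_of_epi (K.iCycles 0) (s.f 0)

/-- Every Ext class of positive degree is killed by an epimorphism onto its source. -/
theorem exists_epi [HasExt.{w} A] {L M : A} {n : ℕ} (hn : 1 ≤ n) (x : Ext L M n) :
    ∃ (L' : A) (p : L' ⟶ L), Epi p ∧ (Ext.mk₀ p).comp x (zero_add n) = 0 := by
  let S := (CochainComplex.singleFunctor A 0).obj L
  let T := (CochainComplex.singleFunctor A 0).obj M
  let c := (Q.commShiftIso (n : ℤ)).app T
  let f : Q.obj S ⟶ Q.obj (T⟦(n : ℤ)⟧) := x.hom ≫ c.inv
  obtain ⟨K, _, s, hs, g, hg⟩ := right_fac_of_isStrictlyLE f 0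
  have : QuasiIso s := (isIso_Q_map_iff_quasiIso (C := A) (φ := s)).1 hs
  let e : S.X 0 ≅ L := HomologicalComplex.singleObjXSelf (ComplexShape.up ℤ) 0 L
  refine ⟨K.X 0, s.f 0 ≫ e.hom, ?_, ?_⟩
  · have := epi_f_zero K L s
    exact epi_comp _ _
  have hφ : (CochainComplex.singleFunctor A 0).map (s.f 0 ≫ e.hom) = fromSingle K ≫ s := by
    apply HomologicalComplex.from_single_hom_ext
    simp [fromSingle, CochainComplex.singleFunctor, CochainComplex.singleFunctors, e,
      HomologicalComplex.single_map_f_self, S]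
  ext
  rw [Ext.comp_hom, Ext.mk₀_hom, ShiftedHom.mk₀_comp, Ext.zero_hom]
  change Q.map ((CochainComplex.singleFunctor A 0).map (s.f 0 ≫ e.hom)) ≫ x.hom = 0
  have hx : x.hom = f ≫ c.hom :=
    ((Category.assoc x.hom c.inv c.hom).trans
      ((congrArg (fun t => x.hom ≫ t) c.inv_hom_id).trans (Category.comp_id _))).symm
  rw [hφ, hx, hg, Q.map_comp]
  calc (Q.map (fromSingle K) ≫ Q.map s) ≫ (inv (Q.map s) ≫ Q.map g) ≫ c.hom
      = Q.map (fromSingle K ≫ g) ≫ c.hom := by
        simp only [Category.assoc, IsIso.hom_inv_id_assoc, Functor.map_comp]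
    _ = 0 := by
        rw [single_to_shift_eq_zero (n : ℤ) (by omega) (fromSingle K ≫ g), Functor.map_zero]
        exact zero_comp

end Groth.Effaceable
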