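import Mathlib

/-!
# Localizations of abelian categories with both calculi of fractions are abelian
-/

universe v' v u' u

open CategoryTheory CategoryTheory.Limits

noncomputable section

namespace Groth.AbLocalization

variable {C : Type u} [Category.{v} C] [Abelian C]
  {D : Type u'} [Category.{v'} D] [Preadditive D]
  (L : C ⥤ D) [L.Additive] (W : MorphismProperty C) [W.HasLeftCalculusOfFractions]
  [W.HasRightCalculusOfFractions] [L.IsLocalization W]

include L W

lemma map_eq_zero_iff_pre {X Y : C} (f : X ⟶ Y) :
    L.map f = 0 ↔ ∃ (X' : C) (s : X' ⟶ X) (_ : W s), s ≫ f = 0 := by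
  rw [← L.map_zero, MorphismProperty.map_eq_iff_precomp L W]
  simp

lemma map_eq_zero_iff_post {X Y : C} (f : X ⟶ Y) :
    L.map f = 0 ↔ ∃ (Y' : C) (s : Y ⟶ Y') (_ : W s), f ≫ s = 0 := by
  rw [← L.map_zero, MorphismProperty.map_eq_iff_postcomp L W]
  simp

lemma mono_map_of_mono {X Y : C} (f : X ⟶ Y) [Mono f] : Mono (L.map f) := by
  have := Localization.essSurj L W
  rw [Preadditive.mono_iff_cancel_zero]
  intro V z hz
  obtain ⟨φ, hφ⟩ := Localization.exists_rightFraction L W ((L.objObjPreimageIso V).hom ≫ z)
  rw [← cancel_epi (L.objObjPreimageIso V).hom, comp_zero, hφ, ← cancel_epi (L.map φ.s), comp_zero,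
    MorphismProperty.RightFraction.map_s_comp_map]
  have h0 : L.map (φ.f ≫ f) = 0 := by
    rw [L.map_comp, ← MorphismProperty.RightFraction.map_s_comp_map φ L (Localization.inverts L W),
      ← hφ, Category.assoc, Category.assoc, hz, comp_zero, comp_zero]
  obtain ⟨Z, t, ht, fac⟩ := (map_eq_zero_iff_pre L W _).1 h0
  rw [← Category.assoc] at fac
  exact (map_eq_zero_iff_pre L W _).2 ⟨Z, t, ht, (cancel_mono f).1 (fac.trans zero_comp.symm)⟩

lemma epi_map_of_epi {X Y : C} (f : X ⟶ Y) [Epi f] : Epi (L.map f) := by
  have := Localization.essSurj L W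
  rw [Preadditive.epi_iff_cancel_zero]
  intro V z hz
  obtain ⟨φ, hφ⟩ := Localization.exists_leftFraction L W (z ≫ (L.objObjPreimageIso V).inv)
  rw [← cancel_mono (L.objObjPreimageIso V).inv, zero_comp, hφ, ← cancel_mono (L.map φ.s), zero_comp,
    MorphismProperty.LeftFraction.map_comp_map_s]
  have h0 : L.map (f ≫ φ.f) = 0 := by
    rw [L.map_comp, ← MorphismProperty.LeftFraction.map_comp_map_s φ L (Localization.inverts L W),
      ← hφ, Category.assoc, reassoc_of% hz, zero_comp]
  obtain ⟨Z, t, ht, fac⟩ := (map_eq_zero_iff_post L W _).1 h0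
  rw [Category.assoc] at fac
  exact (map_eq_zero_iff_post L W _).2 ⟨Z, t, ht, (cancel_epi f).1 (fac.trans comp_zero.symm)⟩

lemma preservesMonomorphisms : L.PreservesMonomorphisms where
  preserves f _ := mono_map_of_mono L W f

lemma preservesEpimorphisms : L.PreservesEpimorphisms where
  preserves f _ := epi_map_of_epi L W f

set_option backward.isDefEq.respectTransparency false in
lemma preservesKernel {X Y : C} (f : X ⟶ Y) :
    PreservesLimit (parallelPair f 0) L := by
  have := preservesMonomorphisms L W
  have := Localization.essSurj L W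
  suffices ∀ (V : D) (z : V ⟶ L.obj X) (hz : z ≫ L.map f = 0),
      ∃ (l : V ⟶ L.obj (kernel f)), l ≫ L.map (kernel.ι f) = z from
    preservesLimit_of_preserves_limit_cone (kernelIsKernel f)
      ((KernelFork.isLimitMapConeEquiv _ L).2
        (Fork.IsLimit.ofExistsUnique
          (fun s ↦ existsUnique_of_exists_of_unique
            (this _ _ (KernelFork.condition s))
            (fun _ _ h₁ h₂ ↦ by simpa [cancel_mono] using h₁.trans h₂.symm))))
  intro V w hw
  wlog hw' : ∃ (Z : C) (hZ : V = L.obj Z) (z : Z ⟶ X), w = eqToHom hZ ≫ L.map z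
      generalizing V
  · obtain ⟨φ, hφ⟩ := Localization.exists_rightFraction L W
      ((L.objObjPreimageIso V).hom ≫ w)
    rw [← cancel_epi (L.map φ.s),
      MorphismProperty.RightFraction.map_s_comp_map] at hφ
    obtain ⟨l, hl⟩ := this _ (L.map φ.f) (by
      rw [← hφ, Category.assoc, Category.assoc, hw, comp_zero, comp_zero]) ⟨_, rfl, by simp⟩
    exact ⟨(L.objObjPreimageIso V).inv ≫ inv (L.map φ.s) ≫ l, by simp [hl, ← hφ]⟩
  obtain ⟨Z, rfl, z, rfl⟩ := hw'
  simp only [eqToHom_refl, Category.id_comp, ← L.map_comp, map_eq_zero_iff_pre L W] at hw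
  obtain ⟨Z', t, ht, fac⟩ := hw
  have := Localization.inverts L W t ht
  rw [← Category.assoc] at fac
  exact ⟨inv (L.map t) ≫ L.map (kernel.lift _ _ fac), by simp [← Functor.map_comp]⟩

set_option backward.isDefEq.respectTransparency false in
lemma preservesCokernel {X Y : C} (f : X ⟶ Y) :
    PreservesColimit (parallelPair f 0) L := by
  have := preservesEpimorphisms L W
  have := Localization.essSurj L W
  suffices ∀ (V : D) (z : L.obj Y ⟶ V) (hz : L.map f ≫ z = 0),
      ∃ (l : L.obj (cokernel f) ⟶ V), L.map (cokernel.π f) ≫ l = z from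
    preservesColimit_of_preserves_colimit_cocone (cokernelIsCokernel f)
      ((CokernelCofork.isColimitMapCoconeEquiv _ L).2
        (Cofork.IsColimit.ofExistsUnique
          (fun s ↦ existsUnique_of_exists_of_unique
            (this _ _ (CokernelCofork.condition s))
            (fun _ _ h₁ h₂ ↦ by simpa [cancel_epi] using h₁.trans h₂.symm))))
  intro V w hw
  wlog hw' : ∃ (Z : C) (hZ : L.obj Z = V) (z : Y ⟶ Z), w = L.map z ≫ eqToHom hZ
      generalizing V
  · obtain ⟨φ, hφ⟩ := Localization.exists_leftFraction L W
      (w ≫ (L.objObjPreimageIso V).inv)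
    rw [← cancel_mono (L.map φ.s), Category.assoc,
      MorphismProperty.LeftFraction.map_comp_map_s] at hφ
    obtain ⟨l, hl⟩ := this _ (L.map φ.f) (by rw [← hφ, reassoc_of% hw, zero_comp]) ⟨_, rfl, by simp⟩
    exact ⟨l ≫ inv (L.map φ.s) ≫ (L.objObjPreimageIso V).hom, by simp [reassoc_of% hl, ← hφ]⟩
  obtain ⟨Z, rfl, z, rfl⟩ := hw'
  simp only [eqToHom_refl, Category.comp_id, ← L.map_comp,
    map_eq_zero_iff_post L W] at hw
  obtain ⟨Z', t, ht, fac⟩ := hw
  rw [Category.assoc] at fac
  have := Localization.inverts L W t ht
  exact ⟨L.map (cokernel.desc _ _ fac) ≫ inv (L.map t), by simp [← L.map_comp_assoc]⟩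

set_option backward.isDefEq.respectTransparency false in
lemma hasKernels : HasKernels D where
  has_limit f := by
    obtain ⟨g, ⟨e⟩⟩ :=
      (Localization.essSurj_mapArrow L W).mem_essImage (Arrow.mk f)
    have := preservesKernel L W g.hom
    have : HasLimit (parallelPair (L.map g.hom) 0) :=
      ⟨_, (KernelFork.isLimitMapConeEquiv _ L).1
        (isLimitOfPreserves L (kernelIsKernel g.hom))⟩
    exact hasLimit_of_iso (show parallelPair (L.map g.hom) 0 ≅ _ from
      parallelPair.ext (Arrow.leftFunc.mapIso e) (Arrow.rightFunc.mapIso e))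

set_option backward.isDefEq.respectTransparency false in
lemma hasCokernels : HasCokernels D where
  has_colimit f := by
    obtain ⟨g, ⟨e⟩⟩ :=
      (Localization.essSurj_mapArrow L W).mem_essImage (Arrow.mk f)
    have := preservesCokernel L W g.hom
    have : HasColimit (parallelPair (L.map g.hom) 0) :=
      ⟨_, (CokernelCofork.isColimitMapCoconeEquiv _ L).1
        (isColimitOfPreserves L (cokernelIsCokernel g.hom))⟩
    exact hasColimit_of_iso (show _ ≅ parallelPair (L.map g.hom) 0 from
      parallelPair.ext (Arrow.leftFunc.mapIso e.symm) (Arrow.rightFunc.mapIso e.symm))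

lemma hasFiniteProducts : HasFiniteProducts D :=
  have := Localization.essSurj L W
  L.hasFiniteProducts_of_additive_of_essSurj


set_option backward.isDefEq.respectTransparency false in
lemma isNormalMonoCategory : IsNormalMonoCategory D where
  normalMonoOfMono {A B} f hf := by
    have := Localization.essSurj_mapArrow L W
    let e := L.mapArrow.objObjPreimageIso (Arrow.mk f)
    let g := L.mapArrow.objPreimage (Arrow.mk f)
    have hg : Mono (L.map g.hom) :=
      ((MorphismProperty.monomorphisms D).arrow_mk_iso_iff e).2 (.infer_property f)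
    have hι : L.map (kernel.ι g.hom) = 0 := by
      rw [← cancel_mono (L.map g.hom), ← L.map_comp, kernel.condition, L.map_zero, zero_comp]
    let p := Abelian.factorThruImage g.hom
    have hp : IsIso (L.map p) := by
      have hk : kernel.ι p ≫ g.hom = 0 := by
        exact (congrArg (fun t => kernel.ι p ≫ t) (Abelian.image.fac g.hom).symm).trans
          ((Category.assoc _ _ _).symm.trans ((congrArg (fun t => t ≫ Abelian.image.ι g.hom)
            (kernel.condition p)).trans zero_comp))
      have h0 : L.map (kernel.ι p) = 0 := by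
        rw [← kernel.lift_ι g.hom _ hk, L.map_comp, hι, comp_zero]
      have := preservesCokernel L W (kernel.ι p)
      have hc : IsColimit (CokernelCofork.ofπ p (kernel.condition p)) :=
        Abelian.epiIsCokernelOfKernel _ (limit.isLimit _)
      have hc' := (CokernelCofork.isColimitMapCoconeEquiv _ L).1 (isColimitOfPreserves L hc)
      exact CokernelCofork.IsColimit.isIso_π _ hc' h0
    let hf' := normalMonoOfMono (Abelian.image.ι g.hom)
    have := preservesKernel L W hf'.g
    refine ⟨NormalMono.ofArrowIso (f := L.map (Abelian.image.ι g.hom)) ?_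
      (((Arrow.isoMk (asIso (L.map p)) (Iso.refl _) (by simp [p, ← L.map_comp]) :
        Arrow.mk (L.map g.hom) ≅ Arrow.mk (L.map (Abelian.image.ι g.hom)))).symm ≪≫ e)⟩
    exact {
      Z := L.obj hf'.Z
      g := L.map hf'.g
      w := by rw [← L.map_comp]; simp [hf'.w]
      isLimit :=
        (KernelFork.isLimitMapConeEquiv _ L).1
          (isLimitOfPreserves L hf'.isLimit) }

set_option backward.isDefEq.respectTransparency false in
lemma isNormalEpiCategory : IsNormalEpiCategory D where
  normalEpiOfEpi {A B} f hf := by
    have := Localization.essSurj_mapArrow L W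
    let e := L.mapArrow.objObjPreimageIso (Arrow.mk f)
    let g := L.mapArrow.objPreimage (Arrow.mk f)
    have hg : Epi (L.map g.hom) :=
      ((MorphismProperty.epimorphisms D).arrow_mk_iso_iff e).2 (.infer_property f)
    have hπ : L.map (cokernel.π g.hom) = 0 := by
      rw [← cancel_epi (L.map g.hom), ← L.map_comp, cokernel.condition, L.map_zero, comp_zero]
    let m := Abelian.image.ι g.hom
    have hm : IsIso (L.map m) := by
      have := preservesKernel L W (cokernel.π g.hom)
      have hk' := (KernelFork.isLimitMapConeEquiv _ L).1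
        (isLimitOfPreserves L (kernelIsKernel (cokernel.π g.hom)))
      exact KernelFork.IsLimit.isIso_ι _ hk' hπ
    let hf' := normalEpiOfEpi (Abelian.factorThruImage g.hom)
    have := preservesCokernel L W hf'.g
    refine ⟨NormalEpi.ofArrowIso (f := L.map (Abelian.factorThruImage g.hom)) ?_
      ((Arrow.isoMk (Iso.refl _) (asIso (L.map m)) (by simp [m, ← L.map_comp]) :
        Arrow.mk (L.map (Abelian.factorThruImage g.hom)) ≅ Arrow.mk (L.map g.hom)) ≪≫ e)⟩
    exact {
      W := L.obj hf'.W
      g := L.map hf'.g
      w := by rw [← L.map_comp]; simp [hf'.w]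
      isColimit :=
        (CokernelCofork.isColimitMapCoconeEquiv _ L).1
          (isColimitOfPreserves L hf'.isColimit) }

/-- The abelian structure. -/
@[instance_reducible]
def abelian : Abelian D := by
  have := hasFiniteProducts L W
  have := hasKernels L W
  have := hasCokernels L W
  have := isNormalMonoCategory L W
  have := isNormalEpiCategory L W
  constructor

lemma preservesFiniteLimits : PreservesFiniteLimits L := by
  let := abelian L W
  rw [((Functor.preservesFiniteLimits_tfae L).out 3 2 :)]
  intro _ _ f
  exact preservesKernel L W f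

lemma preservesFiniteColimits : PreservesFiniteColimits L := by
  let := abelian L W
  rw [((Functor.preservesFiniteColimits_tfae L).out 3 2 :)]
  intro _ _ f
  exact preservesCokernel L W f

end Groth.AbLocalization
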