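import Mathlib

/-!
# Factorisations through truncations in the derived category
-/

universe w v u

open CategoryTheory CategoryTheory.Limits CategoryTheory.Pretriangulated DerivedCategory

noncomputable section

namespace Groth.TruncFactor

variable {C : Type u} [Category.{v} C] [Abelian C] [HasDerivedCategory.{w} C]

set_option backward.isDefEq.respectTransparency false in
lemma exists_triangle (K : CochainComplex C ℤ) (n n' : ℤ) (h : n + 1 = n') :
    ∃ c : Q.obj (K.truncGE n') ⟶ (Q.obj (K.truncLE n))⟦(1 : ℤ)⟧,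
      Triangle.mk (Q.map (K.ιTruncLE n)) (Q.map (K.πTruncGE n')) c ∈ distTriang _ := by
  have hS := K.shortComplexTruncLE_shortExact n
  refine ⟨inv (Q.map (K.shortComplexTruncLEX₃ToTruncGE n n' h)) ≫ (triangleOfSES hS).mor₃,
    isomorphic_distinguished _ (triangleOfSES_distinguished hS) _ (Iso.symm ?_)⟩
  refine Triangle.isoMk _ _ (Iso.refl _) (Iso.refl _)
      (asIso (Q.map (K.shortComplexTruncLEX₃ToTruncGE n n' h))) ?_ ?_ (by simp)
  · dsimp
    rw [Category.comp_id, Category.id_comp]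
    rfl
  · change Q.map (K.shortComplexTruncLE n).g ≫ Q.map (K.shortComplexTruncLEX₃ToTruncGE n n' h) =
      𝟙 _ ≫ Q.map (K.πTruncGE n')
    rw [← Q.map_comp, CochainComplex.g_shortComplexTruncLEX₃ToTruncGE .., Category.id_comp]

lemma homology_map_Q_eq_zero_iff {K L : CochainComplex C ℤ} (f : K ⟶ L) (i : ℤ) :
    (homologyFunctor C i).map (Q.map f) = 0 ↔ HomologicalComplex.homologyMap f i = 0 := by
  have h := (homologyFunctorFactors C i).hom.naturality f
  dsimp at h
  constructor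
  · intro h0
    rw [h0, zero_comp] at h
    exact (cancel_epi ((homologyFunctorFactors C i).hom.app K)).1 (h.symm.trans comp_zero.symm)
  · intro h0
    rw [show (HomologicalComplex.homologyFunctor C (ComplexShape.up ℤ) i).map f = 0 from h0, comp_zero] at h
    exact (cancel_mono ((homologyFunctorFactors C i).hom.app L)).1 (h.trans zero_comp.symm)

lemma zero_of_isLE_of_isGE {X Y : DerivedCategory C} (f : X ⟶ Y) (a b : ℤ) (h : a < b)
    (hX : X.IsLE a) (hY : Y.IsGE b) : f = 0 :=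
  TStructure.t.zero_of_isLE_of_isGE f a b h hX hY

lemma isLE_truncGE (K : CochainComplex C ℤ) (n : ℤ) [K.IsLE n] :
    (Q.obj (K.truncGE n)).IsLE n := by
  rw [isLE_Q_obj_iff, CochainComplex.isLE_iff]
  intro i hi
  have := K.exactAt_of_isLE n i hi
  rw [HomologicalComplex.exactAt_iff_isZero_homology] at this ⊢
  have : QuasiIsoAt (K.πTruncGE n) i := K.quasiIsoAt_πTruncGE _ _ (by omega)
  exact IsZero.of_iso ‹IsZero (K.homology i)› (asIso (HomologicalComplex.homologyMap (K.πTruncGE n) i)).symm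

lemma isGE_truncLE (K : CochainComplex C ℤ) (n : ℤ) [K.IsGE n] :
    (Q.obj (K.truncLE n)).IsGE n := by
  rw [isGE_Q_obj_iff, CochainComplex.isGE_iff]
  intro i hi
  have := K.exactAt_of_isGE n i hi
  rw [HomologicalComplex.exactAt_iff_isZero_homology] at this ⊢
  have : QuasiIsoAt (K.ιTruncLE n) i := K.quasiIsoAt_ιTruncLE _ _ (by omega)
  exact IsZero.of_iso ‹IsZero (K.homology i)› (asIso (HomologicalComplex.homologyMap (K.ιTruncLE n) i))

/-- A map from an object `≤ n` to an object `≥ n` vanishing on `Hⁿ` is zero. -/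
theorem eq_zero_of_homology {X Y : DerivedCategory C} (f : X ⟶ Y) (n : ℤ)
    (hX : X.IsLE n) (hY : Y.IsGE n) (hf : (homologyFunctor C n).map f = 0) : f = 0 := by
  obtain ⟨K, _, ⟨eX⟩⟩ := exists_iso_Q_obj_of_isLE X n
  obtain ⟨L, _, ⟨eY⟩⟩ := exists_iso_Q_obj_of_isGE Y n
  let g : Q.obj K ⟶ Q.obj L := eX.inv ≫ f ≫ eY.hom
  have hg : (homologyFunctor C n).map g = 0 := by simp [g, hf]
  suffices g = 0 by
    rw [← cancel_epi eX.inv, ← cancel_mono eY.hom]
    simpa [g] using this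
  obtain ⟨c₁, hT₁⟩ := exists_triangle K (n - 1) n (by omega)
  obtain ⟨g₁, hg₁⟩ := Triangle.yoneda_exact₂ _ hT₁ g
    (zero_of_isLE_of_isGE _ (n - 1) n (by omega)
      (inferInstanceAs ((Q.obj (K.truncLE (n - 1))).IsLE (n - 1))) inferInstance)
  obtain ⟨c₂, hT₂⟩ := exists_triangle L n (n + 1) rfl
  have hK' : (Q.obj (K.truncGE n)).IsLE n := isLE_truncGE K n
  obtain ⟨g₂, hg₂⟩ := Triangle.coyoneda_exact₂ _ hT₂ g₁
    (zero_of_isLE_of_isGE _ n (n + 1) (by omega) hK'
      (inferInstanceAs ((Q.obj (L.truncGE (n + 1))).IsGE (n + 1))))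
  change Q.obj (K.truncGE n) ⟶ Q.obj (L.truncLE n) at g₂
  change g = Q.map (K.πTruncGE n) ≫ g₁ at hg₁
  change g₁ = g₂ ≫ Q.map (L.ιTruncLE n) at hg₂
  have hπ : IsIso ((homologyFunctor C n).map (Q.map (K.πTruncGE n))) := by
    have : QuasiIsoAt (K.πTruncGE n) n := K.quasiIsoAt_πTruncGE _ _ le_rfl
    exact (NatIso.isIso_map_iff (homologyFunctorFactors C n) _).2
      (inferInstanceAs (IsIso (HomologicalComplex.homologyMap (K.πTruncGE n) n)))
  have hι : IsIso ((homologyFunctor C n).map (Q.map (L.ιTruncLE n))) := by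
    have : QuasiIsoAt (L.ιTruncLE n) n := L.quasiIsoAt_ιTruncLE _ _ le_rfl
    exact (NatIso.isIso_map_iff (homologyFunctorFactors C n) _).2
      (inferInstanceAs (IsIso (HomologicalComplex.homologyMap (L.ιTruncLE n) n)))
  have h₂ : (homologyFunctor C n).map g₂ = 0 := by
    rw [← cancel_epi ((homologyFunctor C n).map (Q.map (K.πTruncGE n))),
      ← cancel_mono ((homologyFunctor C n).map (Q.map (L.ιTruncLE n)))]
    rw [hg₁, hg₂, Functor.map_comp, Functor.map_comp] at hg
    simpa using hg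
  have hK'' : (Q.obj (K.truncGE n)).IsGE n := inferInstance
  have hL' : (Q.obj (L.truncLE n)).IsLE n := inferInstance
  have hL'' : (Q.obj (L.truncLE n)).IsGE n := isGE_truncLE L n
  obtain ⟨A, ⟨eA⟩⟩ := exists_iso_singleFunctor_obj_of_isGE_of_isLE (Q.obj (K.truncGE n)) n
  obtain ⟨B, ⟨eB⟩⟩ := exists_iso_singleFunctor_obj_of_isGE_of_isLE (Q.obj (L.truncLE n)) n
  obtain ⟨φ, hφ⟩ := (singleFunctor C n).map_surjective (eA.inv ≫ g₂ ≫ eB.hom)
  have h3 : (homologyFunctor C n).map ((singleFunctor C n).map φ) = 0 := by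
    rw [hφ]; simp [h₂]
  let e := (singleFunctorCompHomologyFunctorIso C n)
  have : φ = 0 := by
    have := e.hom.naturality φ
    dsimp at this
    rw [h3, zero_comp] at this
    exact (cancel_epi (e.hom.app A)).1 (this.symm.trans comp_zero.symm)
  have hg₂0 : g₂ = 0 := by
    rw [this, Functor.map_zero] at hφ
    rw [← cancel_epi eA.inv, ← cancel_mono eB.hom]
    simpa using hφ.symm
  rw [hg₁, hg₂, hg₂0, zero_comp, comp_zero]

/-- A map between objects `≤ n` vanishing on `Hⁿ` factors through `τ_{≤ n-1}` of its target. -/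
theorem exists_fac_truncLE {K L : CochainComplex C ℤ} (f : Q.obj K ⟶ Q.obj L) (n n₀ : ℤ)
    (h : n₀ + 1 = n) [K.IsLE n] [L.IsLE n] (hf : (homologyFunctor C n).map f = 0) :
    ∃ φ : Q.obj K ⟶ Q.obj (L.truncLE n₀), φ ≫ Q.map (L.ιTruncLE n₀) = f := by
  obtain ⟨c, hT⟩ := exists_triangle L n₀ n h
  obtain ⟨φ, hφ⟩ := Triangle.coyoneda_exact₂ _ hT f
    (eq_zero_of_homology (f ≫ Q.map (L.πTruncGE n)) n inferInstance inferInstance (by simp [hf]))
  exact ⟨φ, hφ.symm⟩

/-- A map between objects `≥ n` vanishing on `Hⁿ` factors through `τ_{≥ n+1}` of its source. -/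
theorem exists_fac_truncGE {K L : CochainComplex C ℤ} (f : Q.obj K ⟶ Q.obj L) (n n₁ : ℤ)
    (h : n + 1 = n₁) [K.IsGE n] [L.IsGE n] (hf : (homologyFunctor C n).map f = 0) :
    ∃ φ : Q.obj (K.truncGE n₁) ⟶ Q.obj L, Q.map (K.πTruncGE n₁) ≫ φ = f := by
  obtain ⟨c, hT⟩ := exists_triangle K n n₁ h
  obtain ⟨φ, hφ⟩ := Triangle.yoneda_exact₂ _ hT f
    (eq_zero_of_homology (Q.map (K.ιTruncLE n) ≫ f) n inferInstance inferInstance (by simp [hf]))
  exact ⟨φ, hφ.symm⟩

end Groth.TruncFactor
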